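import Mathlib

namespace Groth.Agent.SuperTr

universe u v w

variable {R : Type u} [CommRing R] {ι : Type v} [Fintype ι] [DecidableEq ι]
  {M : ι → Type w} [∀ i, AddCommGroup (M i)] [∀ i, Module R (M i)]

/-- The block of an endomorphism of a finite product. -/
def block (φ : (Π k, M k) →ₗ[R] (Π k, M k)) (j i : ι) : M i →ₗ[R] M j :=
  (LinearMap.proj j) ∘ₗ φ ∘ₗ (LinearMap.single R M i)

theorem split (φ : (Π k, M k) →ₗ[R] (Π k, M k)) :
    φ = ∑ i : ι, ∑ j : ι, (LinearMap.single R M j) ∘ₗ block φ j i ∘ₗ (LinearMap.proj i) := by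
  ext k x l
  simp only [block, LinearMap.coe_comp, Function.comp_apply, LinearMap.coe_single, LinearMap.coe_proj,
    LinearMap.sum_apply, Finset.sum_apply, Function.eval]
  rw [Finset.sum_eq_single k, Finset.sum_eq_single l]
  · simp
  · intro j _ hj; simp [Ne.symm hj]
  · simp
  · intro i _ hi; simp [hi]
  · simp

theorem block_comp (φ ψ : (Π k, M k) →ₗ[R] (Π k, M k)) (j i : ι) :
    block (φ ∘ₗ ψ) j i = ∑ l, block φ j l ∘ₗ block ψ l i := by
  ext x
  simp only [block, LinearMap.coe_comp, Function.comp_apply, LinearMap.coe_single, LinearMap.coe_proj,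
    LinearMap.sum_apply, Function.eval]
  conv_lhs => rw [← Finset.univ_sum_single (ψ (Pi.single i x)), map_sum, Finset.sum_apply]

variable [∀ i, Module.Free R (M i)] [∀ i, Module.Finite R (M i)]

theorem trace_eq (φ : (Π k, M k) →ₗ[R] (Π k, M k)) :
    LinearMap.trace R (Π k, M k) φ = ∑ i, LinearMap.trace R (M i) (block φ i i) := by
  conv_lhs => rw [split φ]
  rw [map_sum]
  refine Finset.sum_congr rfl fun i _ => ?_
  rw [map_sum, Finset.sum_eq_single i]
  · rw [LinearMap.trace_comp_comm']
    congr 1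
    ext x; simp
  · intro j _ hj
    rw [LinearMap.trace_comp_comm']
    have : (LinearMap.proj i : (Π k, M k) →ₗ[R] M i) ∘ₗ LinearMap.single R M j = 0 := by
      ext x; simp [Ne.symm hj]
    rw [LinearMap.comp_assoc, this]; simp
  · simp

theorem block_eps (deg : ι → ℤ) (φ : (Π k, M k) →ₗ[R] (Π k, M k)) (i j : ι) :
    block ((∑ k : ι, (LinearMap.single R M k) ∘ₗ (((-1 : R) ^ (deg k).natAbs) • (LinearMap.proj k : (Π k, M k) →ₗ[R] M k))) ∘ₗ φ) j i
      = ((-1 : R) ^ (deg j).natAbs) • block φ j i := by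
  ext x
  simp only [block, LinearMap.coe_comp, Function.comp_apply, LinearMap.coe_single, LinearMap.coe_proj,
    LinearMap.sum_apply, Finset.sum_apply, LinearMap.smul_apply, Function.eval]
  rw [Finset.sum_eq_single j]
  · simp
  · intro k _ hk; simp [Ne.symm hk]
  · simp

end Groth.Agent.SuperTr
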